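import Cfsg.Agent.H76.GLB.Lower
import Cfsg.Agent.H614.GLn.RSLab
import Cfsg.Agent.H577.GLB.Fam
set_option linter.all false

-- part: H76/GLB/LowerFin
section
/-!
# (D4) of S4536: lowering, without hypotheses (helper76)
-/

set_option autoImplicit false

namespace Cfsg.Agent.H76.GLB

open MvPolynomial Cfsg.Agent.H614 Cfsg.Agent.H577.GLB.Std Cfsg.Agent.H614.GLn Cfsg.Agent.H614.GLn.RSt

variable {Q : ℤ} {M : ℕ} [NeZero M]

theorem orth (hQ : IsUnit (Q : ZMod M)) : Orth Q M := by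
  intro m n _ t t'
  have h := form_SchP hQ t t'
  constructor
  · intro e
    rw [h, if_pos (by rw [e])]
  · intro e
    rw [h, if_neg (fun h' => e (LabZ.ext h'))]

/-- **(D4)** -/
theorem exists_lower' {p : ℕ} (hp : p.Prime) (hQ : IsUnit (Q : ZMod M)) (hQp : IsUnit (Q : ZMod p))
    {m n : ℕ} (hmn : n ≤ m) (t : LabZ Q M m n) (ht : POnly M p t.t) (δ : ZMod M) (hδ : PReg M p δ)
    (hw : 0 < ewt (eD Q M p δ) (t.t δ)) :
    eD Q M p δ * perZ Q M δ ≤ n ∧
    ∃ t1 : LabZ Q M m (n - eD Q M p δ * perZ Q M δ), POnly M p t1.t ∧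
      (∀ δ', ¬ SameZ Q M δ δ' → t1.t δ' = t.t δ') ∧ SameCol (eD Q M p δ) (t1.t δ) (t.t δ) ∧
      ewt (eD Q M p δ) (t1.t δ) + 1 = ewt (eD Q M p δ) (t.t δ) ∧
      form Q M (pderiv (eD Q M p δ * perZ Q M δ, canon Q M δ) (SchP Q M t.t)) (SchP Q M t1.t) ≠ 0 :=
  exists_lower (orth hQ) hp hQ hQp hmn t ht δ hδ hw

end Cfsg.Agent.H76.GLB
end

-- part: H76/GLB/Orbit
section
/-!
# S4536, labels over one orbit (helper76)

* `mkL` : the label over the orbit of `δ` with a given tuple;  `SchP_mkL`, `SchP_onlyOn`;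
* `form_pow_ne` (C2a), `pow_mem_span` (C2b), `exists_mul_ne_zero` (C2), `mem_span_pderiv` (C4), `exists_cuspLab` (C1).
-/

set_option autoImplicit false
set_option linter.unusedSectionVars false

open scoped ComplexConjugate

namespace Cfsg.Agent.H76.GLB

open MvPolynomial Cfsg.Agent.H614 Cfsg.Agent.H577.GLB.Std Cfsg.Agent.H614.GLn.RSt
open Cfsg.Agent.H614.GLn hiding bsz
open Cfsg.Agent.H577.GLB.Real (OnlyOn)

/-! ### tuples -/

section tup

variable {m : ℕ}

/-- the tuple of the empty partition -/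
def idb (m : ℕ) : Fin m → ℕ := fun i => (i : ℕ)

theorem strictMono_idb : StrictMono (idb m) := fun _ _ h => h

theorem bsz_idb : bsz (idb m) = 0 := Nat.sub_self _

theorem vac_idb : vac (idb m) = 1 := by
  rw [vac_eq_pair]
  exact pair_self_of_strictMono strictMono_idb

theorem le_of_mono {β : Fin m → ℕ} (h : StrictMono β) (i : Fin m) : (i : ℕ) ≤ β i := by
  obtain ⟨k, hk⟩ := i
  induction k with
  | zero => exact Nat.zero_le _
  | succ k ih =>
    have h1 := ih (by omega)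
    have h2 : β ⟨k, by omega⟩ < β ⟨k + 1, hk⟩ := h (Fin.mk_lt_mk.2 (Nat.lt_succ_self k))
    show k + 1 ≤ β ⟨k + 1, hk⟩
    have h3 : k ≤ β ⟨k, by omega⟩ := h1
    omega

theorem sum_bsz {β : Fin m → ℕ} (h : StrictMono β) : ∑ i, β i = bsz β + ∑ i : Fin m, (i : ℕ) := by
  have h1 : ∑ i : Fin m, (i : ℕ) ≤ ∑ i, β i := Finset.sum_le_sum fun i _ => le_of_mono h i
  unfold bsz
  omega

theorem eq_idb {β : Fin m → ℕ} (h : StrictMono β) (h0 : bsz β = 0) : β = idb m := by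
  have h1 := sum_bsz h
  rw [h0, zero_add] at h1
  have h2 := (Finset.sum_eq_sum_iff_of_le (s := Finset.univ) (f := fun i : Fin m => (i : ℕ)) (g := β)
    (fun i _ => le_of_mono h i)).1 h1.symm
  funext i
  exact (h2 i (Finset.mem_univ _)).symm

theorem dn_one {β : Fin m → ℕ} (h : StrictMono β) {j : Fin m} (hj : 1 ≤ β j) :
    StrictMono (dn β j 1) ∨ ¬ Function.Injective (dn β j 1) := by
  by_cases hinj : Function.Injective (dn β j 1)
  · left
    intro a b hab
    have h1 := h hab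
    by_cases ha : a = j
    · subst ha
      rw [dn_self, dn_ne β 1 hab.ne']
      omega
    · rw [dn_ne β 1 ha]
      by_cases hb : b = j
      · subst hb
        rw [dn_self]
        have h2 : dn β b 1 a ≠ dn β b 1 b := fun h3 => ha (hinj h3)
        rw [dn_self, dn_ne β 1 ha] at h2
        omega
      · rw [dn_ne β 1 hb]
        exact h1
  · exact Or.inr hinj

theorem up_one {β : Fin m → ℕ} (h : StrictMono β) (j : Fin m) :
    StrictMono (up β j 1) ∨ ¬ Function.Injective (up β j 1) := by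
  by_cases hinj : Function.Injective (up β j 1)
  · left
    intro a b hab
    have h1 := h hab
    by_cases hb : b = j
    · subst hb
      rw [up_self, up_ne β 1 hab.ne]
      omega
    · rw [up_ne β 1 hb]
      by_cases ha : a = j
      · subst ha
        rw [up_self]
        have h2 : up β a 1 b ≠ up β a 1 a := fun h3 => hb (hinj h3)
        rw [up_self, up_ne β 1 hb] at h2
        omega
      · rw [up_ne β 1 ha]
        exact h1
  · exact Or.inr hinj

theorem bsz_dn {β : Fin m → ℕ} (h : StrictMono β) {j : Fin m} (hj : 1 ≤ β j) (h' : StrictMono (dn β j 1)) :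
    bsz (dn β j 1) + 1 = bsz β := by
  have h1 := sum_bsz h
  have h2 := sum_bsz h'
  have h3 := sum_dn β j hj
  omega

theorem bsz_up {β : Fin m → ℕ} (h : StrictMono β) (j : Fin m) (h' : StrictMono (up β j 1)) :
    bsz (up β j 1) = bsz β + 1 := by
  have h1 := sum_bsz h
  have h2 := sum_bsz h'
  have h3 := sum_up β j 1
  omega

theorem exists_dn {β : Fin m → ℕ} (h : StrictMono β) (h0 : 0 < bsz β) : ∃ j, 1 ≤ β j ∧ StrictMono (dn β j 1) := by
  classical
  have hne : (Finset.univ.filter fun j : Fin m => β j ≠ (j : ℕ)).Nonempty := by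
    by_contra hno
    rw [Finset.not_nonempty_iff_eq_empty, Finset.filter_eq_empty_iff] at hno
    have h1 : β = idb m := by
      funext i
      have := hno (Finset.mem_univ i)
      push Not at this
      exact this
    rw [h1, bsz_idb] at h0
    exact lt_irrefl _ h0
  obtain ⟨j, hj, hmin⟩ := Finset.exists_min_image _ id hne
  have h1 : β j ≠ (j : ℕ) := (Finset.mem_filter.1 hj).2
  have h2 := le_of_mono h j
  have h3 : ∀ i, i < j → β i = (i : ℕ) := by
    intro i hi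
    by_contra h4
    have h5 := hmin i (Finset.mem_filter.2 ⟨Finset.mem_univ _, h4⟩)
    exact absurd hi (not_lt.2 h5)
  refine ⟨j, by omega, ?_⟩
  intro a b hab
  have h4 := h hab
  by_cases ha : a = j
  · subst ha
    rw [dn_self, dn_ne β 1 hab.ne']
    omega
  · rw [dn_ne β 1 ha]
    by_cases hb : b = j
    · subst hb
      rw [dn_self, h3 a hab]
      have : (a : ℕ) < (b : ℕ) := hab
      omega
    · rw [dn_ne β 1 hb]
      exact h4

end tup

section

variable {Q : ℤ} {M : ℕ} [NeZero M]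

/-! ### the operators of one orbit -/

section orbit

variable {c0 : ZMod M}

theorem SS_noninj {m : ℕ} (k : ℕ) {β : Fin m → ℕ} (h : ¬ Function.Injective β) :
    SS (fun j => Pw Q M j c0) k β = 0 :=
  (SS_alt (fun j => Pw Q M j c0) k).eq_zero_of_not_injective two_torsion_alg h

theorem SS_idb {m : ℕ} : SS (fun j => Pw Q M j c0) 0 (idb m) = 1 := by
  rw [SS_zero_eq, vac_idb, Int.cast_one, one_smul]

theorem D_one (hQ : IsUnit (Q : ZMod M)) (hc : c0 ∈ repsZ Q M) {m k : ℕ} (β : Fin m → ℕ) :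
    DP Q M 1 c0 (SS (fun j => Pw Q M j c0) (k + 1) β) =
      ∑ j, if 1 ≤ β j then SS (fun j => Pw Q M j c0) k (dn β j 1) else 0 := by
  refine D_SS _ one_pos (fun s hs => ?_) (by omega) β
  rw [DP_Pw hQ hc hc s hs]
  simp

/-- iterating the lowering derivation gives a positive number -/
theorem lower_num (hQ : IsUnit (Q : ZMod M)) (hc : c0 ∈ repsZ Q M) {m : ℕ} (w : ℕ) :
    ∀ β : Fin m → ℕ, StrictMono β → bsz β = w →
      ∃ f : ℕ, 0 < f ∧ ((DP Q M 1 c0 : RS M →ₗ[ℂ] RS M) ^ w) (SS (fun j => Pw Q M j c0) w β) = (f : ℂ) • 1 := by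
  induction w with
  | zero =>
    intro β hβ h0
    refine ⟨1, one_pos, ?_⟩
    rw [eq_idb hβ h0, SS_idb, pow_zero, Module.End.one_apply, Nat.cast_one, one_smul]
  | succ w ih =>
    intro β hβ h0
    classical
    have h1 : ∀ j, ∃ f : ℕ, ((1 ≤ β j ∧ StrictMono (dn β j 1)) → 0 < f) ∧
        ((DP Q M 1 c0 : RS M →ₗ[ℂ] RS M) ^ w) (if 1 ≤ β j then SS (fun j => Pw Q M j c0) w (dn β j 1) else 0) =
          (f : ℂ) • 1 := by
      intro j
      by_cases hj : 1 ≤ β j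
      · rw [if_pos hj]
        rcases dn_one hβ hj with h2 | h2
        · obtain ⟨f, hf, hf2⟩ := ih (dn β j 1) h2 (by have := bsz_dn hβ hj h2; omega)
          exact ⟨f, fun _ => hf, hf2⟩
        · refine ⟨0, fun h3 => absurd h3.2.injective h2, ?_⟩
          rw [SS_noninj w h2, map_zero, Nat.cast_zero, zero_smul]
      · refine ⟨0, fun h3 => absurd h3.1 hj, ?_⟩
        rw [if_neg hj, map_zero, Nat.cast_zero, zero_smul]
    choose f hf hf2 using h1
    refine ⟨∑ j, f j, ?_, ?_⟩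
    · obtain ⟨j, hj⟩ := exists_dn hβ (by omega)
      exact Finset.sum_pos' (fun _ _ => Nat.zero_le _) ⟨j, Finset.mem_univ _, hf j hj⟩
    · rw [pow_succ, Module.End.mul_apply]
      have h2 : (DP Q M 1 c0 : RS M →ₗ[ℂ] RS M) (SS (fun j => Pw Q M j c0) (w + 1) β) =
          ∑ j, if 1 ≤ β j then SS (fun j => Pw Q M j c0) w (dn β j 1) else 0 := D_one hQ hc β
      rw [h2, map_sum, Finset.sum_congr rfl fun j _ => hf2 j, ← Finset.sum_smul]
      push_cast
      rfl

theorem form_symm' (P P' : RS M) : conj (form Q M P P') = form Q M P' P := by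
  classical
  rw [form_eq Q M (Finset.subset_union_left (s₁ := P.support) (s₂ := P'.support)),
    form_eq Q M (Finset.subset_union_right (s₁ := P.support) (s₂ := P'.support)), map_sum]
  refine Finset.sum_congr rfl fun s _ => ?_
  have h : conj (Nf Q M s) = Nf Q M s := by
    rw [Nf, Finsupp.prod, map_prod]
    refine Finset.prod_congr rfl fun v _ => ?_
    rw [map_mul, map_pow, map_natCast, map_natCast]
  rw [map_mul, map_mul, h, Complex.conj_conj]
  ring

theorem form_pow_adj (hQ : IsUnit (Q : ZMod M)) (hc : c0 ∈ repsZ Q M) (w : ℕ) (x y : RS M) :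
    form Q M (Pw Q M 1 c0 ^ w * x) y = form Q M x (((DP Q M 1 c0 : RS M →ₗ[ℂ] RS M) ^ w) y) := by
  induction w generalizing y with
  | zero => rw [pow_zero, one_mul, pow_zero, Module.End.one_apply]
  | succ w ih =>
    rw [pow_succ' (Pw Q M 1 c0), mul_assoc, form_Pw_mul hQ hc one_pos, ih, pow_succ, Module.End.mul_apply]
    rfl

theorem form_pow_SS_ne (hQ : IsUnit (Q : ZMod M)) (hc : c0 ∈ repsZ Q M) {m : ℕ} {β : Fin m → ℕ} (hβ : StrictMono β) :
    form Q M (SS (fun j => Pw Q M j c0) (bsz β) β) (Pw Q M 1 c0 ^ bsz β) ≠ 0 := by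
  obtain ⟨f, hf, hf2⟩ := lower_num hQ hc (bsz β) β hβ rfl
  have h1 := form_pow_adj hQ hc (bsz β) 1 (SS (fun j => Pw Q M j c0) (bsz β) β)
  rw [mul_one, hf2, form_smul_right, form_one_left, map_one, map_one, mul_one] at h1
  intro h2
  rw [← form_symm', h1, Complex.conj_conj] at h2
  exact hf.ne' (by exact_mod_cast h2)

theorem mul_span {m k : ℕ} (hk : k + 1 ≤ m) {x : RS M}
    (hx : x ∈ Submodule.span ℂ {x : RS M | ∃ γ : Fin m → ℕ, StrictMono γ ∧ bsz γ = k ∧
      x = SS (fun j => Pw Q M j c0) k γ}) :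
    Pw Q M 1 c0 * x ∈ Submodule.span ℂ {x : RS M | ∃ γ : Fin m → ℕ, StrictMono γ ∧ bsz γ = k + 1 ∧
      x = SS (fun j => Pw Q M j c0) (k + 1) γ} := by
  induction hx using Submodule.span_induction with
  | mem x hx =>
    obtain ⟨γ, hγ, hk2, rfl⟩ := hx
    rw [mul_SS (fun j => Pw Q M j c0) one_pos hk γ]
    refine Submodule.sum_mem _ fun j _ => ?_
    rcases up_one hγ j with h | h
    · exact Submodule.subset_span ⟨_, h, by rw [bsz_up hγ j h, hk2], rfl⟩
    · rw [SS_noninj _ h]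
      exact Submodule.zero_mem _
  | zero => rw [mul_zero]; exact Submodule.zero_mem _
  | add x y _ _ hx hy => rw [mul_add]; exact Submodule.add_mem _ hx hy
  | smul a x _ hx => rw [mul_smul_comm]; exact Submodule.smul_mem _ _ hx

theorem pow_span {m : ℕ} (w : ℕ) (hw : w ≤ m) :
    Pw Q M 1 c0 ^ w ∈ Submodule.span ℂ {x : RS M | ∃ γ : Fin m → ℕ, StrictMono γ ∧ bsz γ = w ∧
      x = SS (fun j => Pw Q M j c0) w γ} := by
  induction w with
  | zero =>
    rw [pow_zero, ← SS_idb (Q := Q) (c0 := c0) (m := m)]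
    exact Submodule.subset_span ⟨_, strictMono_idb, bsz_idb, rfl⟩
  | succ w ih =>
    rw [pow_succ']
    exact mul_span hw (ih (by omega))

/-- C4 for tuples: descending induction on the last entry -/
theorem SS_mem_span (hQ : IsUnit (Q : ZMod M)) (hc : c0 ∈ repsZ Q M) {m w : ℕ} (last : Fin m)
    (hlast : ∀ i, i ≤ last) (N : ℕ) : ∀ β : Fin m → ℕ, StrictMono β → bsz β = w → w + m ≤ β last + N →
      SS (fun j => Pw Q M j c0) w β ∈ Submodule.span ℤ {x : RS M | ∃ γ : Fin m → ℕ, StrictMono γ ∧ bsz γ = w + 1 ∧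
        x = DP Q M 1 c0 (SS (fun j => Pw Q M j c0) (w + 1) γ)} := by
  -- the last entry is at most `w + m - 1`
  have hbound : ∀ β : Fin m → ℕ, StrictMono β → bsz β = w → β last < w + m := by
    intro β hβ hw
    have h1 := sum_bsz hβ
    have h2 : ∑ i ∈ Finset.univ.erase last, (i : ℕ) ≤ ∑ i ∈ Finset.univ.erase last, β i :=
      Finset.sum_le_sum fun i _ => le_of_mono hβ i
    have h3 := Finset.add_sum_erase Finset.univ β (Finset.mem_univ last)
    have h4 := Finset.add_sum_erase Finset.univ (fun i : Fin m => (i : ℕ)) (Finset.mem_univ last)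
    have h5 := last.2
    omega
  induction N with
  | zero =>
    intro β hβ hw h
    have := hbound β hβ hw
    omega
  | succ N ih =>
    intro β hβ hw h
    have hup : StrictMono (up β last 1) := by
      intro a b hab
      have h1 := hβ hab
      have ha : a ≠ last := fun h2 => by
        subst h2
        exact absurd (hlast b) (not_le.2 hab)
      rw [up_ne β 1 ha]
      by_cases hb : b = last
      · subst hb
        rw [up_self]
        omega
      · rw [up_ne β 1 hb]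
        exact h1
    have hγ : DP Q M 1 c0 (SS (fun j => Pw Q M j c0) (w + 1) (up β last 1)) ∈
        Submodule.span ℤ {x : RS M | ∃ γ : Fin m → ℕ, StrictMono γ ∧ bsz γ = w + 1 ∧
          x = DP Q M 1 c0 (SS (fun j => Pw Q M j c0) (w + 1) γ)} :=
      Submodule.subset_span ⟨_, hup, by rw [bsz_up hβ last hup, hw], rfl⟩
    rw [D_one hQ hc, ← Finset.add_sum_erase _ _ (Finset.mem_univ last), up_self, if_pos (by omega), dn_up_self] at hγ
    refine (Submodule.add_mem_iff_left _ ?_).1 hγ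
    refine Submodule.sum_mem _ fun j hj => ?_
    have hj' : j ≠ last := Finset.ne_of_mem_erase hj
    by_cases h1 : 1 ≤ up β last 1 j
    · rw [if_pos h1]
      rcases dn_one hup h1 with h2 | h2
      · refine ih _ h2 ?_ ?_
        · have h3 := bsz_dn hup h1 h2
          rw [bsz_up hβ last hup] at h3
          omega
        · rw [dn_ne _ 1 hj'.symm, up_self]
          omega
      · rw [SS_noninj _ h2]
        exact Submodule.zero_mem _
    · rw [if_neg h1]
      exact Submodule.zero_mem _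

end orbit

/-! ### labels over one orbit -/

/-- the label over the orbit of `δ` with the tuple `γ` -/
noncomputable def mkL (hQ : IsUnit (Q : ZMod M)) {m : ℕ} (δ : ZMod M) (γ : Fin m → ℕ) (hγ : StrictMono γ) {w : ℕ}
    (hw : bsz γ = w) : LabZ Q M m (perZ Q M δ * w) where
  t := repl Q (fun _ => idb m) δ γ
  mono c := by
    by_cases h : SameZ Q M δ c
    · rw [repl_same _ _ h]; exact hγ
    · rw [repl_not _ _ h]; exact strictMono_idb
  orb c := by
    by_cases h : SameZ Q M δ c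
    · rw [repl_same _ _ h, repl_same _ _ (SameZ.trans' h ⟨1, by rw [pow_one]⟩)]
    · rw [repl_not _ _ h, repl_not _ _ (fun h' => h (SameZ.trans' h' (SameZ.symm' hQ ⟨1, by rw [pow_one]⟩)))]
  sum := by
    classical
    rw [← Finset.sum_filter_add_sum_filter_not Finset.univ (fun c => SameZ Q M δ c)]
    have h2 : ∑ c ∈ Finset.univ.filter (fun c => SameZ Q M δ c), bsz (repl Q (fun _ => idb m) δ γ c) =
        perZ Q M δ * w := by
      rw [Finset.sum_congr rfl (g := fun _ => bsz γ), Finset.sum_const, card_same hQ, smul_eq_mul, hw]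
      intro c hc
      rw [repl_same _ _ (Finset.mem_filter.1 hc).2]
    have h3 : ∑ c ∈ Finset.univ.filter (fun c => ¬ SameZ Q M δ c), bsz (repl Q (fun _ => idb m) δ γ c) = 0 :=
      Finset.sum_eq_zero fun c hc => by rw [repl_not _ _ (Finset.mem_filter.1 hc).2, bsz_idb]
    rw [h2, h3, add_zero]

theorem mkL_t (hQ : IsUnit (Q : ZMod M)) {m : ℕ} (δ : ZMod M) (γ : Fin m → ℕ) (hγ : StrictMono γ) {w : ℕ}
    (hw : bsz γ = w) : (mkL hQ δ γ hγ hw).t = repl Q (fun _ => idb m) δ γ := rfl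

theorem mkL_self (hQ : IsUnit (Q : ZMod M)) {m : ℕ} (δ : ZMod M) (γ : Fin m → ℕ) (hγ : StrictMono γ) {w : ℕ}
    (hw : bsz γ = w) : (mkL hQ δ γ hγ hw).t δ = γ := by
  rw [mkL_t]
  exact repl_same _ _ (sameZ_refl δ)

theorem mkL_onlyOn (hQ : IsUnit (Q : ZMod M)) {m : ℕ} (δ : ZMod M) (γ : Fin m → ℕ) (hγ : StrictMono γ) {w : ℕ}
    (hw : bsz γ = w) : OnlyOn Q M δ (mkL hQ δ γ hγ hw).t := by
  intro c hc
  by_contra h
  rw [mkL_t, repl_not _ _ h, bsz_idb] at hc
  exact lt_irrefl _ hc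

theorem Sch_idb {m : ℕ} (c : ZMod M) : Sch Q M c (idb m) = 1 := by
  rw [Sch_eq, bsz_idb]
  exact SS_idb

theorem SchP_repl_idb (hQ : IsUnit (Q : ZMod M)) {m : ℕ} (δ : ZMod M) (γ : Fin m → ℕ) :
    SchP Q M (repl Q (fun _ => idb m) δ γ) = SS (fun j => Pw Q M j (canon Q M δ)) (bsz γ) γ := by
  rw [SchP_repl hQ, Finset.prod_eq_one fun c _ => Sch_idb c, mul_one, Sch_eq]

theorem SchP_mkL (hQ : IsUnit (Q : ZMod M)) {m : ℕ} (δ : ZMod M) (γ : Fin m → ℕ) (hγ : StrictMono γ) {w : ℕ}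
    (hw : bsz γ = w) : SchP Q M (mkL hQ δ γ hγ hw).t = SS (fun j => Pw Q M j (canon Q M δ)) w γ := by
  rw [mkL_t, SchP_repl_idb hQ, hw]

theorem onlyOn_eq {m n : ℕ} (t : LabZ Q M m n) {δ : ZMod M} (h : OnlyOn Q M δ t.t) :
    t.t = repl Q (fun _ => idb m) δ (t.t δ) := by
  funext c
  by_cases hc : SameZ Q M δ c
  · rw [repl_same _ _ hc, orb_same t hc]
  · rw [repl_not _ _ hc]
    refine eq_idb (t.mono c) ?_
    by_contra h0
    exact hc (h c (Nat.pos_of_ne_zero h0))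

theorem SchP_onlyOn (hQ : IsUnit (Q : ZMod M)) {m n : ℕ} (t : LabZ Q M m n) {δ : ZMod M} (h : OnlyOn Q M δ t.t) :
    SchP Q M t.t = SS (fun j => Pw Q M j (canon Q M δ)) (bsz (t.t δ)) (t.t δ) := by
  conv_lhs => rw [onlyOn_eq t h]
  exact SchP_repl_idb hQ δ _

/-- the size of a label over one orbit -/
theorem size_onlyOn (hQ : IsUnit (Q : ZMod M)) {m n : ℕ} (t : LabZ Q M m n) {δ : ZMod M} (h : OnlyOn Q M δ t.t) :
    n = perZ Q M δ * bsz (t.t δ) := by
  have h1 := (mkL hQ δ (t.t δ) (t.mono δ) rfl).sum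
  rw [mkL_t, ← onlyOn_eq t h, t.sum] at h1
  exact h1

theorem rv_eq_Pw (hQ : IsUnit (Q : ZMod M)) (δ : ZMod M) : rv Q M (perZ Q M δ) δ = Pw Q M 1 (canon Q M δ) := by
  have h1 : perZ Q M (canon Q M δ) = perZ Q M δ := (perZ_of_same hQ (sameZ_canon δ)).symm
  rw [Pw_eq hQ (canon_mem_repsZ hQ δ) one_pos, one_mul, h1, rv, if_pos ⟨perZ_pos hQ δ, (torZ_iff _ δ).2 dvd_rfl⟩]

/-- **C2a.** -/
theorem form_pow_ne (hQ : IsUnit (Q : ZMod M)) {m n : ℕ} (t : LabZ Q M m n) (δ₀ : ZMod M) (h : OnlyOn Q M δ₀ t.t)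
    (w : ℕ) (hw : bsz (t.t δ₀) = w) : form Q M (SchP Q M t.t) (rv Q M (perZ Q M δ₀) δ₀ ^ w) ≠ 0 := by
  rw [SchP_onlyOn hQ t h, rv_eq_Pw hQ, ← hw]
  exact form_pow_SS_ne hQ (canon_mem_repsZ hQ δ₀) (t.mono δ₀)

/-- **C2b**, with the weaker hypothesis `w ≤ m`. -/
theorem pow_mem_span' (hQ : IsUnit (Q : ZMod M)) {m w : ℕ} (δ₀ : ZMod M) (hw : w ≤ m) :
    rv Q M (perZ Q M δ₀) δ₀ ^ w ∈ Submodule.span ℂ {x : RS M | ∃ t : LabZ Q M m (perZ Q M δ₀ * w),
      OnlyOn Q M δ₀ t.t ∧ bsz (t.t δ₀) = w ∧ x = SchP Q M t.t} := by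
  rw [rv_eq_Pw hQ]
  refine Submodule.span_mono ?_ (pow_span (Q := Q) (c0 := canon Q M δ₀) w hw)
  rintro x ⟨γ, hγ, hw, rfl⟩
  exact ⟨mkL hQ δ₀ γ hγ hw, mkL_onlyOn hQ δ₀ γ hγ hw, by rw [mkL_self]; exact hw, (SchP_mkL hQ δ₀ γ hγ hw).symm⟩

/-- **C2b.** -/
theorem pow_mem_span (hQ : IsUnit (Q : ZMod M)) {m w : ℕ} (δ₀ : ZMod M) (hw : w * perZ Q M δ₀ ≤ m) :
    rv Q M (perZ Q M δ₀) δ₀ ^ w ∈ Submodule.span ℂ {x : RS M | ∃ t : LabZ Q M m (perZ Q M δ₀ * w),
      OnlyOn Q M δ₀ t.t ∧ x = SchP Q M t.t} := by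
  refine Submodule.span_mono ?_ (pow_mem_span' hQ δ₀ ((Nat.le_mul_of_pos_right w (perZ_pos hQ δ₀)).trans hw))
  rintro x ⟨t, h1, _, h2⟩
  exact ⟨t, h1, h2⟩

theorem form_span_zero {S : Set (RS M)} {x : RS M} (hx : x ∈ Submodule.span ℂ S) (P y : RS M)
    (h0 : ∀ s ∈ S, form Q M P (y * s) = 0) : form Q M P (y * x) = 0 := by
  induction hx using Submodule.span_induction with
  | mem x hx => exact h0 x hx
  | zero => rw [mul_zero, form_zero_right]
  | add x y _ _ hx hy => rw [mul_add, form_add_right, hx, hy, add_zero]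
  | smul a x _ hx => rw [mul_smul_comm, form_smul_right, hx, mul_zero]

/-- **C2.** -/
theorem exists_mul_ne_zero (hQ : IsUnit (Q : ZMod M)) {m n : ℕ} (hm : n ≤ m) (t : LabZ Q M m n) (δ₀ : ZMod M)
    (h : OnlyOn Q M δ₀ t.t) (w₁ w₂ : ℕ) (hw : w₁ + w₂ = bsz (t.t δ₀)) :
    ∃ (t₁ : LabZ Q M m (perZ Q M δ₀ * w₁)) (t₂ : LabZ Q M m (perZ Q M δ₀ * w₂)),
      OnlyOn Q M δ₀ t₁.t ∧ OnlyOn Q M δ₀ t₂.t ∧ bsz (t₁.t δ₀) = w₁ ∧ bsz (t₂.t δ₀) = w₂ ∧
      form Q M (SchP Q M t.t) (SchP Q M t₁.t * SchP Q M t₂.t) ≠ 0 := by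
  by_contra hno
  push Not at hno
  have hwm : bsz (t.t δ₀) ≤ m := by
    have h1 := size_onlyOn hQ t h
    have h2 := Nat.le_mul_of_pos_left (bsz (t.t δ₀)) (perZ_pos hQ δ₀)
    omega
  apply form_pow_ne hQ t δ₀ h _ rfl
  rw [← hw, pow_add]
  have h1 := pow_mem_span' (Q := Q) hQ δ₀ (show w₁ ≤ m by omega)
  have h2 := pow_mem_span' (Q := Q) hQ δ₀ (show w₂ ≤ m by omega)
  have h3 : ∀ t₁ : LabZ Q M m (perZ Q M δ₀ * w₁), OnlyOn Q M δ₀ t₁.t → bsz (t₁.t δ₀) = w₁ →
      form Q M (SchP Q M t.t) (SchP Q M t₁.t * rv Q M (perZ Q M δ₀) δ₀ ^ w₂) = 0 := by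
    intro t₁ ht₁ hb₁
    refine form_span_zero h2 _ _ ?_
    rintro x ⟨t₂, ht₂, hb₂, rfl⟩
    exact hno t₁ t₂ ht₁ ht₂ hb₁ hb₂
  rw [mul_comm]
  refine form_span_zero h1 _ _ ?_
  rintro x ⟨t₁, ht₁, hb₁, rfl⟩
  rw [mul_comm]
  exact h3 t₁ ht₁ hb₁

/-- **C4.** -/
theorem mem_span_pderiv (hQ : IsUnit (Q : ZMod M)) {m w : ℕ} (δ₀ : ZMod M) (hm : perZ Q M δ₀ * (w + 1) ≤ m)
    (t₁ : LabZ Q M m (perZ Q M δ₀ * w)) (h : OnlyOn Q M δ₀ t₁.t) :
    SchP Q M t₁.t ∈ Submodule.span ℤ {x : RS M | ∃ t : LabZ Q M m (perZ Q M δ₀ * (w + 1)), OnlyOn Q M δ₀ t.t ∧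
      x = MvPolynomial.pderiv (perZ Q M δ₀, canon Q M δ₀) (SchP Q M t.t)} := by
  have hper : perZ Q M (canon Q M δ₀) = perZ Q M δ₀ := (perZ_of_same hQ (sameZ_canon δ₀)).symm
  have hpos := perZ_pos hQ δ₀
  have hwm : w + 1 ≤ m := (Nat.le_mul_of_pos_left (w + 1) hpos).trans hm
  have hb : bsz (t₁.t δ₀) = w := by
    have h1 := size_onlyOn hQ t₁ h
    exact (Nat.eq_of_mul_eq_mul_left hpos h1).symm
  have hD : ∀ x : RS M, DP Q M 1 (canon Q M δ₀) x = MvPolynomial.pderiv (perZ Q M δ₀, canon Q M δ₀) x := by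
    intro x
    rw [DP, Dv_apply, zz_Pw hQ, Nat.cast_one, one_smul, one_mul, hper]
  rw [SchP_onlyOn hQ t₁ h, hb]
  have h1 := SS_mem_span (Q := Q) hQ (canon_mem_repsZ hQ δ₀) (⟨m - 1, by omega⟩ : Fin m)
    (fun i => Fin.mk_le_mk.2 (by have := i.2; omega)) (w + m) (t₁.t δ₀) (t₁.mono δ₀) hb (by omega)
  refine Submodule.span_mono ?_ h1
  rintro x ⟨γ, hγ, hw, rfl⟩
  exact ⟨mkL hQ δ₀ γ hγ hw, mkL_onlyOn hQ δ₀ γ hγ hw, by rw [SchP_mkL, hD]⟩

/-- **C1.** The label of the cuspidal character. -/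
theorem exists_cuspLab (hQ : IsUnit (Q : ZMod M)) {m : ℕ} (hm : 0 < m) (δ : ZMod M) :
    ∃ t : LabZ Q M m (perZ Q M δ), SchP Q M t.t = rv Q M (perZ Q M δ) δ ∧ OnlyOn Q M δ t.t ∧ bsz (t.t δ) = 1 := by
  have hup : StrictMono (up (idb m) ⟨m - 1, by omega⟩ 1) := by
    intro a b hab
    have h1 : (a : ℕ) < b := hab
    have ha : a ≠ ⟨m - 1, by omega⟩ := fun h2 => by
      rw [h2] at h1
      have h3 := b.2
      simp only at h1
      omega
    rw [up_ne _ 1 ha]
    by_cases hb : b = ⟨m - 1, by omega⟩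
    · rw [hb, up_self]
      have h3 : (b : ℕ) = m - 1 := by rw [hb]
      show (a : ℕ) < m - 1 + 1
      omega
    · rw [up_ne _ 1 hb]
      exact h1
  have hb1 : bsz (up (idb m) ⟨m - 1, by omega⟩ 1) = 1 := by rw [bsz_up strictMono_idb _ hup, bsz_idb]
  have h1 := mul_SS (fun j => Pw Q M j (canon Q M δ)) one_pos (m := m) (k := 0) (by omega) (idb m)
  rw [SS_idb, mul_one, Finset.sum_eq_single (⟨m - 1, by omega⟩ : Fin m)] at h1
  · let L := mkL hQ δ _ hup hb1
    have hper : perZ Q M δ * 1 = perZ Q M δ := mul_one _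
    refine ⟨⟨L.t, L.mono, L.orb, by rw [L.sum, hper]⟩, ?_, mkL_onlyOn hQ δ _ hup hb1, ?_⟩
    · show SchP Q M L.t = _
      rw [SchP_mkL, rv_eq_Pw hQ]
      exact h1.symm
    · show bsz (L.t δ) = 1
      rw [mkL_self]
      exact hb1
  · intro j _ hj
    apply SS_noninj
    intro hinj
    have hj1 : (j : ℕ) + 1 < m := by
      have h2 := j.2
      by_contra h3
      exact hj (Fin.ext (show (j : ℕ) = m - 1 by omega))
    have h2 : (⟨(j : ℕ) + 1, hj1⟩ : Fin m) ≠ j := fun h3 => by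
      have := congrArg Fin.val h3
      simp only at this
      omega
    apply h2
    apply hinj
    rw [up_self, up_ne _ 1 h2]
    rfl
  · intro h2
    exact absurd (Finset.mem_univ _) h2

end

end Cfsg.Agent.H76.GLB
end
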