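import Cfsg.Agent.H614.Weight
import Mathlib.Data.Fin.Tuple.Sort
import Cfsg.Agent.H577.GLB.StdCount
import Cfsg.Agent.H614.GLn.RSForm
set_option linter.all false

-- part: H76/GLB/Bead
section
/-!
# Lowering a bead of a tuple of positive weight (helper76, S4536)
-/

set_option autoImplicit false

namespace Cfsg.Agent.H76.GLB

open Finset Cfsg.Agent.H614

variable {m : ℕ}

/-- a tuple of positive weight has an entry which can be lowered by `e` -/
theorem exists_bead {e : ℕ} (he : 0 < e) {β : Fin m → ℕ} (hβ : Function.Injective β)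
    (hw : npairs e β < ∑ j, β j / e) : ∃ j, e ≤ β j ∧ Function.Injective (dn β j e) := by
  classical
  by_contra hcon
  push Not at hcon
  have step : ∀ j, e ≤ β j → ∃ k, β k = β j - e := by
    intro j hj
    have h1 := hcon j hj
    rw [Function.Injective] at h1
    push Not at h1
    obtain ⟨a, b, hab, hne⟩ := h1
    by_cases ha : a = j
    · subst ha
      rw [dn_self, dn_ne β e (Ne.symm hne)] at hab
      exact ⟨b, hab.symm⟩
    · rw [dn_ne β e ha] at hab
      by_cases hb : b = j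
      · subst hb
        rw [dn_self] at hab
        exact ⟨a, hab⟩
      · rw [dn_ne β e hb] at hab
        exact absurd (hβ hab) hne
  have steps : ∀ c j, e * c ≤ β j → ∃ k, β k = β j - e * c := by
    intro c
    induction c with
    | zero => intro j _; exact ⟨j, by simp⟩
    | succ c ih =>
      intro j hj
      rw [Nat.mul_succ] at hj
      obtain ⟨k, hk⟩ := ih j (by omega)
      obtain ⟨l, hl⟩ := step k (by omega)
      exact ⟨l, by rw [hl, hk, Nat.mul_succ]; omega⟩
  have hlow : ∀ j, β j / e ≤ low e β j := by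
    intro j
    have h0 : e * (β j / e) ≤ β j := Nat.mul_div_le _ _
    have h1 : ∀ c : ℕ, ∃ k, c < β j / e → β k = β j - e * (c + 1) := by
      intro c
      by_cases hc : c < β j / e
      · obtain ⟨k, hk⟩ := steps (c + 1) j ((Nat.mul_le_mul_left e hc).trans h0)
        exact ⟨k, fun _ => hk⟩
      · exact ⟨j, fun h => absurd h hc⟩
    choose f hf using h1
    unfold low
    conv_lhs => rw [← Finset.card_range (β j / e)]
    apply Finset.card_le_card_of_injOn f
    · intro c hc
      rw [Finset.mem_coe, Finset.mem_range] at hc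
      have h2 := hf c hc
      have h3 : e * (c + 1) ≤ β j := (Nat.mul_le_mul_left e hc).trans h0
      rw [Finset.mem_coe, Finset.mem_filter]
      refine ⟨Finset.mem_univ _, ?_, ?_⟩
      · rw [h2]
        conv_rhs => rw [show β j = (β j - e * (c + 1)) + e * (c + 1) by omega]
        rw [Nat.add_mul_mod_self_left]
      · rw [h2]
        have : 0 < e * (c + 1) := Nat.mul_pos he (Nat.succ_pos _)
        omega
    · intro c hc d hd hcd
      rw [Finset.mem_coe, Finset.mem_range] at hc hd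
      have h2 := hf c hc
      have h2' := hf d hd
      have h3 : e * (c + 1) ≤ β j := (Nat.mul_le_mul_left e hc).trans h0
      have h3' : e * (d + 1) ≤ β j := (Nat.mul_le_mul_left e hd).trans h0
      rw [hcd, h2'] at h2
      have h4 : e * (c + 1) = e * (d + 1) := by omega
      have := Nat.eq_of_mul_eq_mul_left he h4
      omega
  have h1 := Finset.sum_le_sum fun j (_ : j ∈ Finset.univ) => hlow j
  rw [sum_low e hβ] at h1
  omega

theorem exists_sort {β : Fin m → ℕ} (hβ : Function.Injective β) : ∃ σ : Equiv.Perm (Fin m), StrictMono (β ∘ σ) :=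
  ⟨Tuple.sort β, (Tuple.monotone_sort β).strictMono_of_injective (hβ.comp (Tuple.sort β).injective)⟩

/-- the entry which was lowered is determined by the result -/
theorem dn_unique {e : ℕ} (he : 0 < e) {β : Fin m → ℕ} (hβ : Function.Injective β) {j j' : Fin m} (hj : e ≤ β j)
    {σ σ' : Equiv.Perm (Fin m)} (h : dn β j e ∘ σ = dn β j' e ∘ σ') : j = j' := by
  by_contra hne
  have h1 : dn β j' e j = β j := dn_ne β e hne
  have h2 : dn β j e (σ (σ'.symm j)) = β j := by
    have h3 := congrFun h (σ'.symm j)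
    rw [Function.comp_apply, Function.comp_apply, Equiv.apply_symm_apply, h1] at h3
    exact h3
  by_cases hk : σ (σ'.symm j) = j
  · rw [hk, dn_self] at h2
    omega
  · rw [dn_ne β e hk] at h2
    exact hk (hβ h2)

end Cfsg.Agent.H76.GLB
end

-- part: H76/GLB/Lower
section
/-!
# (D4) of S4536: lowering (helper76)

`exists_lower` : a `p'`-label `δ` of positive weight can be lowered, and the adjoint of the corresponding power sum
has a nonzero coefficient.  The orthonormality of the Schur products is the hypothesis `Orth`.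
-/

set_option autoImplicit false
set_option linter.unusedSectionVars false

open scoped ComplexConjugate

namespace Cfsg.Agent.H76.GLB

open MvPolynomial Cfsg.Agent.H614 Cfsg.Agent.H577.GLB.Std Cfsg.Agent.H614.GLn Cfsg.Agent.H614.GLn.RSt

/-- orthonormality of the Schur products -/
def Orth (Q : ℤ) (M : ℕ) [NeZero M] : Prop := ∀ m n : ℕ, n ≤ m → ∀ t t' : LabZ Q M m n,
  (t = t' → form Q M (SchP Q M t.t) (SchP Q M t'.t) = 1) ∧
  (t ≠ t' → form Q M (SchP Q M t.t) (SchP Q M t'.t) = 0)

section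

variable {Q : ℤ} {M : ℕ} [NeZero M]

open Classical in
/-- the size of the orbit -/
theorem card_same (hQ : IsUnit (Q : ZMod M)) (δ : ZMod M) :
    (Finset.univ.filter fun c : ZMod M => SameZ Q M δ c).card = perZ Q M δ := by
  have h1 : (Finset.univ.filter fun c : ZMod M => SameZ Q M δ c) =
      (Finset.range (perZ Q M δ)).image (fun j => (Q : ZMod M) ^ j * δ) := by
    ext c
    rw [Finset.mem_filter, Finset.mem_image]
    constructor
    · rintro ⟨-, j, rfl⟩
      refine ⟨j % perZ Q M δ, Finset.mem_range.2 (Nat.mod_lt _ (perZ_pos hQ δ)), ?_⟩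
      rw [← iter_mul, ← iter_mul]
      exact Function.iterate_mod_minimalPeriod_eq
    · rintro ⟨j, -, rfl⟩
      exact ⟨Finset.mem_univ _, j, rfl⟩
  rw [h1, Finset.card_image_of_injOn, Finset.card_range]
  intro i hi j hj hij
  rw [Finset.mem_coe, Finset.mem_range] at hi hj
  have hij' : (Q : ZMod M) ^ i * δ = (Q : ZMod M) ^ j * δ := hij
  rw [← iter_mul, ← iter_mul] at hij'
  exact Function.iterate_injOn_Iio_minimalPeriod hi hj hij'

theorem pReg_of_same {p : ℕ} {δ c : ZMod M} (h : SameZ Q M δ c) (hδ : PReg M p δ) : PReg M p c := by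
  obtain ⟨j, rfl⟩ := h
  refine Nat.Coprime.coprime_dvd_left ?_ hδ
  have h1 : (Q : ZMod M) ^ j * δ = ((Q : ZMod M) ^ j).val • δ := by
    rw [nsmul_eq_mul, ZMod.natCast_zmod_val]
  rw [h1]
  exact addOrderOf_smul_dvd _

theorem orb_same {m n : ℕ} (t : LabZ Q M m n) {δ c : ZMod M} (h : SameZ Q M δ c) : t.t c = t.t δ := by
  obtain ⟨j, rfl⟩ := h
  induction j with
  | zero => rw [pow_zero, one_mul]
  | succ j ih => rw [pow_succ', mul_assoc, t.orb, ih]

theorem Sch_eq (c : ZMod M) {m : ℕ} (β : Fin m → ℕ) : Sch Q M c β = SS (fun j => Pw Q M j c) (bsz β) β := by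
  classical
  unfold Sch SS ZV bsz
  refine Finset.sum_congr rfl fun ν _ => ?_
  rw [smul_smul]
  congr 1
  rw [div_eq_mul_inv, mul_comm]
  congr 2
  unfold H614.zz
  rw [Finset.prod_multiset_count ν.parts]
  push_cast
  rw [Finset.prod_mul_distrib]

theorem DP_Sch_ne (hQ : IsUnit (Q : ZMod M)) {c c' : ZMod M} (hc : c ∈ repsZ Q M) (hc' : c' ∈ repsZ Q M)
    (hne : c' ≠ c) (r : ℕ) {m : ℕ} (β : Fin m → ℕ) : DP Q M r c (Sch Q M c' β) = 0 := by
  rw [Sch_eq]
  exact D_SS_zero _ (fun s hs => by rw [DP_Pw hQ hc hc' s hs, if_neg (fun h => hne h.1)]) _ _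

theorem DP_Sch (hQ : IsUnit (Q : ZMod M)) {c : ZMod M} (hc : c ∈ repsZ Q M) {r : ℕ} (hr : 0 < r) {m : ℕ}
    (β : Fin m → ℕ) (hk : r ≤ bsz β) : DP Q M r c (Sch Q M c β) =
      ∑ j, if r ≤ β j then SS (fun j => Pw Q M j c) (bsz β - r) (dn β j r) else 0 := by
  rw [Sch_eq]
  refine D_SS _ hr (fun s hs => ?_) hk β
  rw [DP_Pw hQ hc hc s hs]
  simp

theorem D_prod_zero {A : Type*} [CommRing A] [Algebra ℂ A] (D : Derivation ℂ A A) {ι : Type*} (S : Finset ι) (f : ι → A)
    (h : ∀ i ∈ S, D (f i) = 0) : D (∏ i ∈ S, f i) = 0 := by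
  classical
  induction S using Finset.induction_on with
  | empty => simp
  | insert a s ha ih =>
    rw [Finset.prod_insert ha, Derivation.leibniz, h a (Finset.mem_insert_self _ _),
      ih fun i hi => h i (Finset.mem_insert_of_mem hi), smul_zero, smul_zero, add_zero]

theorem eD_pos {p : ℕ} (hp : p.Prime) (hQp : IsUnit (Q : ZMod p)) (δ : ZMod M) : 0 < eD Q M p δ := by
  have : Fact p.Prime := ⟨hp⟩
  obtain ⟨u, hu⟩ := hQp.pow (perZ Q M δ)
  rw [eD, ← hu, orderOf_units]
  exact orderOf_pos u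

/-- replacing the tuples on the orbit of `δ` -/
noncomputable def repl (Q : ℤ) {M : ℕ} [NeZero M] {m : ℕ} (t : ZMod M → Fin m → ℕ) (δ : ZMod M) (γ : Fin m → ℕ) :
    ZMod M → Fin m → ℕ := by
  classical exact fun c => if SameZ Q M δ c then γ else t c

theorem repl_same {m : ℕ} (t : ZMod M → Fin m → ℕ) {δ c : ZMod M} (γ : Fin m → ℕ) (h : SameZ Q M δ c) :
    repl Q t δ γ c = γ := by
  classical
  rw [repl, if_pos h]

theorem repl_not {m : ℕ} (t : ZMod M → Fin m → ℕ) {δ c : ZMod M} (γ : Fin m → ℕ) (h : ¬ SameZ Q M δ c) :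
    repl Q t δ γ c = t c := by
  classical
  rw [repl, if_neg h]

theorem sum_repl (hQ : IsUnit (Q : ZMod M)) {m n : ℕ} (t : LabZ Q M m n) (δ : ZMod M) (γ : Fin m → ℕ) :
    ∑ c, bsz (repl Q t.t δ γ c) + perZ Q M δ * bsz (t.t δ) = n + perZ Q M δ * bsz γ := by
  classical
  have h1 : ∀ f : ZMod M → ℕ, ∑ c, f c = ∑ c ∈ Finset.univ.filter (fun c => SameZ Q M δ c), f c +
      ∑ c ∈ Finset.univ.filter (fun c => ¬ SameZ Q M δ c), f c := fun f =>
    (Finset.sum_filter_add_sum_filter_not _ _ _).symm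
  have h2 : ∑ c ∈ Finset.univ.filter (fun c => SameZ Q M δ c), bsz (repl Q t.t δ γ c) = perZ Q M δ * bsz γ := by
    rw [Finset.sum_congr rfl (g := fun _ => bsz γ), Finset.sum_const, card_same hQ, smul_eq_mul]
    intro c hc
    rw [repl_same _ _ (Finset.mem_filter.1 hc).2]
  have h3 : ∑ c ∈ Finset.univ.filter (fun c => SameZ Q M δ c), bsz (t.t c) = perZ Q M δ * bsz (t.t δ) := by
    rw [Finset.sum_congr rfl (g := fun _ => bsz (t.t δ)), Finset.sum_const, card_same hQ, smul_eq_mul]
    intro c hc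
    rw [orb_same t (Finset.mem_filter.1 hc).2]
  have h4 : ∑ c ∈ Finset.univ.filter (fun c => ¬ SameZ Q M δ c), bsz (repl Q t.t δ γ c) =
      ∑ c ∈ Finset.univ.filter (fun c => ¬ SameZ Q M δ c), bsz (t.t c) :=
    Finset.sum_congr rfl fun c hc => by rw [repl_not _ _ (Finset.mem_filter.1 hc).2]
  have h5 := t.sum
  rw [h1, h3] at h5
  rw [h1, h2, h4]
  omega

/-- the label with the tuples on the orbit of `δ` replaced -/
noncomputable def replL (hQ : IsUnit (Q : ZMod M)) {m n : ℕ} (t : LabZ Q M m n) (δ : ZMod M) (γ : Fin m → ℕ)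
    (hγ : StrictMono γ) {e : ℕ} (he : bsz γ + e = bsz (t.t δ)) : LabZ Q M m (n - e * perZ Q M δ) where
  t := repl Q t.t δ γ
  mono c := by
    by_cases h : SameZ Q M δ c
    · rw [repl_same _ _ h]; exact hγ
    · rw [repl_not _ _ h]; exact t.mono c
  orb c := by
    by_cases h : SameZ Q M δ c
    · rw [repl_same _ _ h, repl_same _ _ (SameZ.trans' h ⟨1, by rw [pow_one]⟩)]
    · rw [repl_not _ _ h, repl_not _ _ (fun h' => h (SameZ.trans' h' (SameZ.symm' hQ ⟨1, by rw [pow_one]⟩))), t.orb]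
  sum := by
    have h1 := sum_repl hQ t δ γ
    rw [← he, Nat.mul_add, mul_comm e] at *
    omega

theorem SchP_repl (hQ : IsUnit (Q : ZMod M)) {m : ℕ} (t : ZMod M → Fin m → ℕ) (δ : ZMod M) (γ : Fin m → ℕ) :
    SchP Q M (repl Q t δ γ) = Sch Q M (canon Q M δ) γ * ∏ c ∈ (repsZ Q M).erase (canon Q M δ), Sch Q M c (t c) := by
  classical
  have h0 : (Finset.univ.filter fun c : ZMod M => canon Q M c = c) = repsZ Q M := by
    ext c
    rw [mem_repsZ, Finset.mem_filter]
    simp
  unfold SchP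
  rw [h0, ← Finset.mul_prod_erase _ _ (canon_mem_repsZ hQ δ), repl_same _ _ (sameZ_canon δ)]
  congr 1
  refine Finset.prod_congr rfl fun c hc => ?_
  rw [Finset.mem_erase, mem_repsZ] at hc
  rw [repl_not]
  intro h
  exact hc.1 (by rw [← hc.2]; exact (canon_eq_of_same hQ h).symm)

/-- **(D4)** -/
theorem exists_lower (horth : Orth Q M) {p : ℕ} (hp : p.Prime) (hQ : IsUnit (Q : ZMod M)) (hQp : IsUnit (Q : ZMod p))
    {m n : ℕ} (hmn : n ≤ m) (t : LabZ Q M m n) (ht : POnly M p t.t) (δ : ZMod M) (hδ : PReg M p δ)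
    (hw : 0 < ewt (eD Q M p δ) (t.t δ)) :
    eD Q M p δ * perZ Q M δ ≤ n ∧
    ∃ t1 : LabZ Q M m (n - eD Q M p δ * perZ Q M δ), POnly M p t1.t ∧
      (∀ δ', ¬ SameZ Q M δ δ' → t1.t δ' = t.t δ') ∧ SameCol (eD Q M p δ) (t1.t δ) (t.t δ) ∧
      ewt (eD Q M p δ) (t1.t δ) + 1 = ewt (eD Q M p δ) (t.t δ) ∧
      form Q M (pderiv (eD Q M p δ * perZ Q M δ, canon Q M δ) (SchP Q M t.t)) (SchP Q M t1.t) ≠ 0 := by
  classical
  have he := eD_pos (M := M) hp hQp δ
  set e := eD Q M p δ with hedef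
  set β := t.t δ with hβdef
  have hβ : Function.Injective β := (t.mono δ).injective
  obtain ⟨j0, hj0, hinj⟩ := exists_bead he hβ (by unfold ewt at hw; omega)
  obtain ⟨σ0, hσ0⟩ := exists_sort hinj
  -- sizes
  have hsz : ∀ j, e ≤ β j → Function.Injective (dn β j e) → ∀ σ : Equiv.Perm (Fin m),
      bsz (dn β j e ∘ σ) + e = bsz β := by
    intro j hj hi σ
    have h1 := sum_dn β j hj
    have h2 := sum_le_of_injective hi
    have h3 : ∑ i, (dn β j e ∘ σ) i = ∑ i, dn β j e i := Equiv.sum_comp σ (dn β j e)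
    unfold bsz
    rw [h3]
    omega
  have hsz0 := hsz j0 hj0 hinj σ0
  have hle : e * perZ Q M δ ≤ n := by
    have h1 := t.sum
    have h2 : perZ Q M δ * bsz β ≤ n := by
      have h3 : ∑ c ∈ Finset.univ.filter (fun c => SameZ Q M δ c), bsz (t.t c) = perZ Q M δ * bsz (t.t δ) := by
        rw [Finset.sum_congr rfl (g := fun _ => bsz (t.t δ)), Finset.sum_const, card_same hQ, smul_eq_mul]
        intro c hc
        rw [orb_same t (Finset.mem_filter.1 hc).2]
      rw [hβdef, ← h3]
      exact (Finset.sum_le_sum_of_subset (Finset.filter_subset _ _)).trans h1.le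
    have h4 : e ≤ bsz β := by omega
    calc e * perZ Q M δ ≤ bsz β * perZ Q M δ := Nat.mul_le_mul_right _ h4
      _ = perZ Q M δ * bsz β := mul_comm _ _
      _ ≤ n := h2
  refine ⟨hle, replL hQ t δ (dn β j0 e ∘ σ0) hσ0 hsz0, ?_, ?_, ?_, ?_, ?_⟩
  · intro c hc
    have h1 : ¬ SameZ Q M δ c := fun h => hc (pReg_of_same h hδ)
    show bsz (repl Q t.t δ _ c) = 0
    rw [repl_not _ _ h1]
    exact ht c hc
  · intro δ' hδ'
    exact repl_not _ _ hδ'
  · show SameCol e (repl Q t.t δ _ δ) β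
    rw [repl_same _ _ (sameZ_refl δ)]
    exact (sameCol_comp e _ σ0).trans (sameCol_dn dvd_rfl β j0 hj0)
  · show ewt e (repl Q t.t δ _ δ) + 1 = ewt e β
    rw [repl_same _ _ (sameZ_refl δ)]
    have h1 := sum_div_dn he β j0 (c := 1) (by rw [mul_one]; exact hj0)
    rw [mul_one] at h1
    have h2 : ∑ k, (dn β j0 e ∘ σ0) k / e = ∑ k, dn β j0 e k / e := Equiv.sum_comp σ0 (fun k => dn β j0 e k / e)
    have h3 := npairs_of_sameCol ((sameCol_comp e (dn β j0 e) σ0).trans (sameCol_dn dvd_rfl β j0 hj0))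
    have h4 := npairs_le he hσ0.injective
    unfold ewt
    rw [h3, h2] at *
    omega
  · set c0 := canon Q M δ with hc0
    have hc0r : c0 ∈ repsZ Q M := canon_mem_repsZ hQ δ
    have hper : perZ Q M c0 = perZ Q M δ := (perZ_of_same hQ (sameZ_canon δ)).symm
    set Rest := ∏ c ∈ (repsZ Q M).erase c0, Sch Q M c (t.t c) with hRest
    have ht0 : SchP Q M t.t = Sch Q M c0 β * Rest := by
      rw [← SchP_repl hQ t.t δ β]
      congr 1
      funext c
      by_cases h : SameZ Q M δ c
      · rw [repl_same _ _ h, orb_same t h]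
      · rw [repl_not _ _ h]
    have hDR : DP Q M e c0 Rest = 0 := D_prod_zero _ _ _ fun c hc => by
      rw [Finset.mem_erase] at hc
      exact DP_Sch_ne hQ hc0r hc.2 hc.1 e _
    have hD : DP Q M e c0 (SchP Q M t.t) = ∑ j, (if e ≤ β j then
        SS (fun j => Pw Q M j c0) (bsz β - e) (dn β j e) else 0) * Rest := by
      rw [ht0, Derivation.leibniz, hDR, smul_zero, zero_add, DP_Sch hQ hc0r he β (by omega), smul_eq_mul, mul_comm,
        Finset.sum_mul]
    set T1 := replL hQ t δ (dn β j0 e ∘ σ0) hσ0 hsz0 with hT1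
    have hterm : ∀ j, ∀ σ : Equiv.Perm (Fin m), e ≤ β j → ∀ hi : Function.Injective (dn β j e),
        ∀ hσ : StrictMono (dn β j e ∘ σ),
        form Q M (SS (fun j => Pw Q M j c0) (bsz β - e) (dn β j e) * Rest) (SchP Q M T1.t) =
          ((sg σ : ℤ) : ℂ) * form Q M (SchP Q M (repl Q t.t δ (dn β j e ∘ σ))) (SchP Q M T1.t) := by
      intro j σ hj hi hσ
      have h1 := SS_alt (fun j => Pw Q M j c0) (bsz β - e) σ (dn β j e)
      have h2 : SS (fun j => Pw Q M j c0) (bsz β - e) (dn β j e) =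
          ((sg σ : ℤ) : ℂ) • SS (fun j => Pw Q M j c0) (bsz β - e) (dn β j e ∘ σ) := by
        rw [h1, ← Int.cast_smul_eq_zsmul ℂ, smul_smul, ← Int.cast_mul, sg_mul_self, Int.cast_one, one_smul]
      have h3 : bsz (dn β j e ∘ σ) = bsz β - e := by have := hsz j hj hi σ; omega
      rw [h2, SchP_repl hQ, smul_mul_assoc, form_smul_left, Sch_eq, h3]
    have h0 : form Q M (DP Q M e c0 (SchP Q M t.t)) (SchP Q M T1.t) = ((sg σ0 : ℤ) : ℂ) := by
      rw [hD, form_sum_left, Finset.sum_eq_single j0]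
      · rw [if_pos hj0, hterm j0 σ0 hj0 hinj hσ0]
        have := (horth m _ ((Nat.sub_le _ _).trans hmn) T1 T1).1 rfl
        have h1 : T1.t = repl Q t.t δ (dn β j0 e ∘ σ0) := rfl
        rw [← h1, this, mul_one]
      · intro j _ hj
        by_cases hjb : e ≤ β j
        · rw [if_pos hjb]
          by_cases hi : Function.Injective (dn β j e)
          · obtain ⟨σ, hσ⟩ := exists_sort hi
            rw [hterm j σ hjb hi hσ]
            have h1 := (horth m _ ((Nat.sub_le _ _).trans hmn) (replL hQ t δ (dn β j e ∘ σ) hσ (hsz j hjb hi σ)) T1).2 (by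
              intro h
              have h2 := congrArg (fun L : LabZ Q M m _ => L.t δ) h
              have h3 : repl Q t.t δ (dn β j e ∘ σ) δ = repl Q t.t δ (dn β j0 e ∘ σ0) δ := h2
              rw [repl_same _ _ (sameZ_refl δ), repl_same _ _ (sameZ_refl δ)] at h3
              exact hj (dn_unique he hβ hjb h3))
            have h2 : (replL hQ t δ (dn β j e ∘ σ) hσ (hsz j hjb hi σ)).t = repl Q t.t δ (dn β j e ∘ σ) := rfl
            rw [← h2, h1, mul_zero]
          · rw [(SS_alt (fun j => Pw Q M j c0) (bsz β - e)).eq_zero_of_not_injective two_torsion_alg hi, zero_mul,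
              form_zero_left]
        · rw [if_neg hjb, zero_mul, form_zero_left]
      · intro h
        exact absurd (Finset.mem_univ _) h
    intro hzero
    have h1 : DP Q M e c0 (SchP Q M t.t) = (e : ℂ) • pderiv (e * perZ Q M δ, c0) (SchP Q M t.t) := by
      rw [DP, Dv_apply, zz_Pw hQ, hper]
    rw [h1, form_smul_left, hzero, mul_zero] at h0
    have h2 := sg_mul_self σ0
    have h3 : ((sg σ0 : ℤ) : ℂ) * ((sg σ0 : ℤ) : ℂ) = 1 := by exact_mod_cast h2
    rw [← h0, mul_zero] at h3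
    exact zero_ne_one h3

end

end Cfsg.Agent.H76.GLB
end
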